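import Cfsg.Agent.Schur.TailCert
import Cfsg.Agent.FFourMult.Data

/-!
# The certificates for the prime two
-/

set_option autoImplicit false
set_option maxRecDepth 20000

namespace CfsgLib.FFourMult

open CfsgLib.Schur

/-- The certificate for kernels of exponent two. -/
def certOne : Tail.Cert :=
  ⟨1, 1, 24, rows, fusRows, assocOne, fusEqOne, eqsOne, adjOne, dvOne, comboOne, 100⟩

/-- The certificate for cyclic kernels of order four. -/
def certTwo : Tail.Cert :=
  ⟨2, 2, 24, rows, fusRows, assocTwo, fusEqTwo, eqsTwo, adjTwo, dvTwo, comboTwo, 100⟩

theorem certOne_eqs : certOne.eqsCheck = true := by decide +kernel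

theorem certOne_lin : certOne.linCheck = true := by decide +kernel

theorem certTwo_eqs : certTwo.eqsCheck = true := by decide +kernel

theorem certTwo_lin : certTwo.linCheck = true := by decide +kernel

end CfsgLib.FFourMult
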