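import Mathlib.Data.Nat.Notation

/-!
# Words for the cover of `F₄(2)` (generated)
-/

set_option autoImplicit false

namespace CfsgLib.FFourMult

/-- Conjugates of the generators by the fundamental ones. -/
def conjRows : List (List (List ℕ)) :=
  [[[0], [1], [2], [3, 10], [4, 11], [5, 12], [6, 13, 17], [7, 14, 18], [8, 15, 19], [], [10], [11], [12], [13], [14], [15], [16, 20], [17], [18], [19], [20], [21], [22], [23]],
    [[0], [1, 4, 6], [2, 5, 7], [], [4], [5], [6], [7], [8], [9, 10], [10], [11, 13], [12, 14], [13], [14], [15, 16], [16], [17], [18], [19, 20, 21], [20], [21], [22], [23]],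
    [[0, 2], [], [2], [3, 4, 6], [4], [5], [6], [7, 8], [8], [9], [10, 11, 17], [11], [12], [13], [14, 15, 23, 24], [15], [16], [17], [18, 19, 24], [19], [20], [21, 22, 24], [22], [23]],
    [[], [1, 2], [2], [3], [4, 5, 8], [5], [6, 7], [7], [8], [9], [10], [11, 12, 19], [12], [13, 14, 21], [14], [15], [16], [17, 18, 24], [18], [19], [20], [21], [22, 23], [23]]]

/-- Two pairs of words and their inverses whose commutators differ by the central element. -/
def comWords : List (List ℕ) :=
  [[1, 11], [0, 18], [11, 1], [18, 0], [1, 5], [0, 9], [5, 1], [9, 0]]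

end CfsgLib.FFourMult
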