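import Cfsg.Agent.FFourMult.Words
import Cfsg.Agent.FFourMult.Data
import Cfsg.Agent.FFourMult.CoverData

/-!
# Checks for the cover

A word over the generators `0, …, 24` is checked in `F₄(2)` (where `24` is trivial) and on the
sixteen points.
-/

set_option autoImplicit false
set_option maxRecDepth 20000

namespace CfsgLib.FFourMult

open CfsgLib.ChevSimple.Two

/-- The code in `F₄(2)` of a word over the generators. -/
def gcode (w : List ℕ) : ℕ :=
  wordC 52 (fun r => xCodes.getD r 0) ((w.filter fun s => Nat.blt s 24).map (24 + ·))

/-- The image of a point under a generator. -/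
def pimg (s : ℕ) (j : Fin 16) : Fin 16 := (permRows.getD s []).getD j j

/-- The image of a point under the inverse of a generator. -/
def pinv (s : ℕ) (j : Fin 16) : Fin 16 := (permInvRows.getD s []).getD j j

theorem pinv_pimg : ∀ s < 25, ∀ j : Fin 16, pinv s (pimg s j) = j ∧ pimg s (pinv s j) = j := by
  decide +kernel

theorem pimg_ge : permRows.length = 25 ∧ permInvRows.length = 25 := by decide +kernel

/-- The action of a word. -/
def pact : List ℕ → Fin 16 → Fin 16
  | [], j => j
  | s :: w, j => pimg s (pact w j)

/-- Two words act alike. -/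
def peq (u w : List ℕ) : Bool := (List.finRange 16).all fun j => pact u j == pact w j

/-- The central term of a rule. -/
def eps (b a : ℕ) : Bool := (epsRows.getD b []).getD a false

/-- The right hand side of the rule for `(b, a)` in the cover. -/
def crule (b a : ℕ) : List ℕ :=
  if b < 24 then (rows.getD b []).getD a [] ++ (if eps b a then [24] else [])
  else if a = 24 then [] else [a, 24]

theorem perm_rules : ((List.range 25).all fun b => (List.range (b + 1)).all fun a =>
    peq [b, a] (crule b a)) = true := by decide +kernel

/-- The fundamental generator of a reflection. -/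
def pGen (f : ℕ) : ℕ := [9, 3, 1, 0].getD f 0

/-- The conjugate word. -/
def conjW (f r : ℕ) : List ℕ := (conjRows.getD f []).getD r []

/-- Conjugation by a fundamental generator keeps the others. -/
def normChk (f r : ℕ) : Bool :=
  Nat.beq r (pGen f) ||
    ((conjW f r).all (fun s => Nat.blt s 25 && !Nat.beq s (pGen f)) &&
      peq [pGen f, r] (conjW f r ++ [pGen f]) &&
      Nat.beq (gcode [pGen f, r]) (gcode (conjW f r ++ [pGen f])))

theorem normChk_all :
    ((List.range 4).all fun f => (List.range 24).all fun r => normChk f r) = true := by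
  decide +kernel

/-- The image of a word under a reflection in the cover. -/
def phiW (f : ℕ) : List ℕ → List ℕ
  | [] => []
  | s :: w => (bif Nat.blt s 24 then
      (fusRows.getD f []).getD s 24 :: (bif (etaRows.getD f []).getD s false then [24] else [])
    else [24]) ++ phiW f w

/-- The reflections respect the rules of the cover. -/
def phiChk (f b a : ℕ) : Bool :=
  Nat.beq a (pGen f) || Nat.beq b (pGen f) ||
    ((crule b a).all (fun s => Nat.blt s 25 && !Nat.beq s (pGen f)) &&
      peq (phiW f [b, a]) (phiW f (crule b a)))

theorem phiChk_all : ((List.range 4).all fun f => (List.range 25).all fun b =>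
    (List.range (b + 1)).all fun a => phiChk f b a) = true := by
  decide +kernel

/-- The `i`th word. -/
def cw (i : ℕ) : List ℕ := comWords.getD i []

/-- The two commutators differ by the central element. -/
def comChk : Bool :=
  (comWords.all fun w => w.all fun s => Nat.blt s 25) &&
  [(0, 2), (1, 3), (4, 6), (5, 7)].all (fun p : ℕ × ℕ =>
      peq (cw p.2 ++ cw p.1) [] && Nat.beq (gcode (cw p.2 ++ cw p.1)) (gcode [])) &&
    peq (cw 0 ++ cw 1 ++ cw 2 ++ cw 3) (cw 4 ++ cw 5 ++ cw 6 ++ cw 7 ++ [24]) &&
    Nat.beq (gcode (cw 0 ++ cw 1 ++ cw 2 ++ cw 3))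
      (gcode (cw 4 ++ cw 5 ++ cw 6 ++ cw 7 ++ [24]))

theorem comChk_true : comChk = true := by decide +kernel

theorem pz_ne : pact [24] 0 ≠ 0 := by decide +kernel

end CfsgLib.FFourMult
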