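import Cfsg.Agent.FFourMult.Sylow
import Cfsg.Agent.FFourMult.CoverChecks

/-!
# The double cover of the unipotent subgroup of `F₄(2)`

It is generated inside `F₄(2) × Perm (Fin 16)`; the last generator is central of order two and
spans the kernel of the projection.
-/

set_option autoImplicit false
set_option maxRecDepth 20000
set_option maxHeartbeats 400000

namespace CfsgLib.FFourMult

open Cfsg.Lie CfsgLib.Chevalley CfsgLib.ChevSimple.Two CfsgLib.Schur
open scoped MatrixGroups commutatorElement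

attribute [local irreducible] el uGen wc gcode usub

/-- The ambient group. -/
abbrev Amb : Type := G₂₄ × Equiv.Perm (Fin 16)

/-- The permutation of a generator. -/
def perm (s : ℕ) : Equiv.Perm (Fin 16) :=
  if h : s < 25 then
    ⟨pimg s, pinv s, fun j => (pinv_pimg s h j).1, fun j => (pinv_pimg s h j).2⟩
  else 1

theorem perm_apply (s : ℕ) (j : Fin 16) : perm s j = pimg s j := by
  unfold perm
  split
  · rfl
  · next h =>
    show j = pimg s j
    rw [pimg, List.getD_eq_default permRows [] (by rw [pimg_ge.1]; omega)]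
    rfl

/-- The generators of the cover. -/
def xg (i : ℕ) : Amb := (if i < 24 then uGen i else 1, perm i)

theorem xg_fst {i : ℕ} (hi : i < 24) : (xg i).1 = uGen i := if_pos hi

theorem xg_fst_ge {i : ℕ} (hi : ¬ i < 24) : (xg i).1 = 1 := if_neg hi

theorem ev_xg_snd (w : List ℕ) (j : Fin 16) : (Pc.ev xg w).2 j = pact w j := by
  induction w with
  | nil => rfl
  | cons s w ih => rw [Pc.ev_cons, Prod.snd_mul, Equiv.Perm.mul_apply, ih]; exact perm_apply s _

theorem ev_xg_fst (w : List ℕ) :
    (Pc.ev xg w).1 = Pc.ev uGen (w.filter fun s => Nat.blt s 24) := by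
  induction w with
  | nil => rfl
  | cons s w ih =>
    rw [Pc.ev_cons, Prod.fst_mul, ih]
    cases h : Nat.blt s 24 with
    | true =>
      rw [List.filter_cons_of_pos (p := fun s => Nat.blt s 24) h, Pc.ev_cons, xg_fst (Nat.le_of_ble_eq_true h)]
    | false =>
      rw [List.filter_cons_of_neg (p := fun s => Nat.blt s 24) (Bool.eq_false_iff.1 h), xg_fst_ge, one_mul]
      exact fun hs => Bool.eq_false_iff.1 h (Nat.ble_eq_true_of_le hs)

theorem ev_xg_eq_of_chk {u w : List ℕ} (hp : peq u w = true)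
    (hg : Nat.beq (gcode u) (gcode w) = true) : Pc.ev xg u = Pc.ev xg w := by
  refine Prod.ext ?_ (Equiv.ext fun j => ?_)
  · rw [ev_xg_fst, ev_xg_fst, ev_uGen, ev_uGen]
    refine el_eq (up_lt ?_) (up_lt ?_) ?_
    iterate 2 exact fun s hs => Nat.le_of_ble_eq_true (List.mem_filter.1 hs).2
    rw [gcode, gcode] at hg
    rw [wc, wc]
    exact hg
  · rw [ev_xg_snd, ev_xg_snd]
    simp only [peq, List.all_eq_true, beq_iff_eq] at hp
    exact hp j (List.mem_finRange j)

theorem rule_filter {b a : ℕ} (hab : a ≤ b) (hb : b < 24) :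
    (crule b a).filter (fun s => Nat.blt s 24) = rule b a := by
  rw [crule, if_pos hb, List.filter_append,
    show (rows.getD b []).getD a [] = rule b a from rfl,
    (List.filter_eq_self (p := fun s => Nat.blt s 24)).2 fun s hs => Nat.ble_eq_true_of_le (mem_rule_lt hab hb hs)]
  cases eps b a <;> simp [rule]

theorem xg_rules {b a : ℕ} (hab : a ≤ b) (hb : b < 25) :
    xg b * xg a = Pc.ev xg (crule b a) := by
  refine Prod.ext ?_ (Equiv.ext fun j => ?_)
  · rw [Prod.fst_mul, ev_xg_fst]
    by_cases h : b < 24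
    · rw [rule_filter hab h, ← uGen_rules hab h, xg_fst h, xg_fst (by omega)]
    · obtain rfl : b = 24 := by omega
      rw [xg_fst_ge h, one_mul]
      by_cases ha : a = 24
      · subst ha; rw [xg_fst_ge h, crule, if_neg h, if_pos rfl]; rfl
      · rw [xg_fst (show a < 24 by omega), crule, if_neg h, if_neg ha,
          List.filter_cons_of_pos (p := fun s => Nat.blt s 24) (Nat.ble_eq_true_of_le (show a < 24 by omega)),
          List.filter_cons_of_neg (p := fun s => Nat.blt s 24) (by decide), Pc.ev_cons, List.filter_nil, Pc.ev_nil, mul_one]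
  · have h := perm_rules
    simp only [List.all_eq_true, List.mem_range] at h
    have h2 := h b hb a (by omega)
    simp only [peq, List.all_eq_true, beq_iff_eq] at h2
    rw [ev_xg_snd, ← h2 j (List.mem_finRange j), Prod.snd_mul, Equiv.Perm.mul_apply]
    show perm b (perm a j) = pimg b (pimg a j)
    rw [perm_apply, perm_apply]

attribute [local irreducible] perm

/-- The cover of the unipotent subgroup. -/
def cov : Subgroup Amb := Pc.tailSubgroup xg 25 0

theorem xg_mem (i : ℕ) : xg i ∈ cov := by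
  by_cases h : i < 25
  · exact Pc.gen_mem_tailSubgroup xg (Nat.zero_le _) h
  · have : xg i = 1 := Prod.ext (xg_fst_ge (by omega)) (by show perm i = 1; rw [perm, dif_neg h])
    rw [this]; exact one_mem _

/-- The generators as elements of the cover. -/
def xc (i : ℕ) : cov := ⟨xg i, xg_mem i⟩

theorem coe_ev_xc (w : List ℕ) : ((Pc.ev xc w : cov) : Amb) = Pc.ev xg w := by
  induction w with
  | nil => rfl
  | cons s w ih => rw [Pc.ev_cons, Pc.ev_cons, Subgroup.coe_mul, ih]; rfl

/-- The projection. -/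
def proj : cov →* G₂₄ := (MonoidHom.fst _ _).comp cov.subtype

/-- The central element. -/
def zc : cov := xc 24

theorem proj_zc : proj zc = 1 := xg_fst_ge (lt_irrefl 24)

theorem range_proj : proj.range = usub := by
  rw [proj, MonoidHom.range_comp, Subgroup.range_subtype, cov, usub, Pc.tailSubgroup,
    Pc.tailSubgroup, MonoidHom.map_closure]
  refine le_antisymm ((Subgroup.closure_le _).2 ?_) ((Subgroup.closure_le _).2 ?_)
  · rintro _ ⟨_, ⟨i, hi, rfl⟩, rfl⟩
    by_cases h : i < 24
    · exact Subgroup.subset_closure ⟨i, ⟨hi.1, h⟩, (xg_fst h).symm⟩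
    · rw [MonoidHom.coe_fst, xg_fst_ge h]; exact one_mem _
  · rintro _ ⟨i, hi, rfl⟩
    rw [Set.mem_Ico] at hi
    refine Subgroup.subset_closure ⟨xg i, ⟨i, ⟨hi.1, by omega⟩, rfl⟩, ?_⟩
    exact xg_fst hi.2

/-- The rules of the cover. -/
def cRules : Pc.Rules :=
  (List.range 25).flatMap fun b => (List.range (b + 1)).map fun a => ([b, a], crule b a)

theorem cRules_shaped : Pc.shaped 2 25 cRules = true := by decide +kernel

theorem mem_cRules {r : List ℕ × List ℕ} (hr : r ∈ cRules) :
    ∃ b a, a ≤ b ∧ b < 25 ∧ r = ([b, a], crule b a) := by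
  simp only [cRules, List.mem_flatMap, List.mem_map, List.mem_range] at hr
  obtain ⟨b, hb, a, ha, rfl⟩ := hr
  exact ⟨b, a, by omega, hb, rfl⟩

theorem card_cov_le : Nat.card cov ≤ 2 ^ 25 := by
  refine Pc.card_tailSubgroup_le xg cRules_shaped (fun r hr => ?_) 25 0 (Nat.zero_add _)
  obtain ⟨b, a, hab, hb, rfl⟩ := mem_cRules hr
  simp only [Pc.ev_cons, Pc.ev_nil, mul_one]
  exact xg_rules hab hb

theorem zc_ne_one : zc ≠ 1 := by
  intro h
  have := congrArg (fun v : cov => (v : Amb).2 0) h
  refine pz_ne ?_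
  rw [← ev_xg_snd]
  simp only [Pc.ev_cons, Pc.ev_nil, mul_one]
  exact this

theorem zc_mul_self : zc * zc = 1 := by
  refine Subtype.ext ?_
  show xg 24 * xg 24 = 1
  rw [xg_rules le_rfl (by norm_num), crule, if_neg (lt_irrefl _), if_pos rfl, Pc.ev_nil]

attribute [local irreducible] xg

theorem commute_of_closure {H : Type*} [Group H] (S : Set H) {w : H}
    (h : ∀ x ∈ S, x * w = w * x) {v : H} (hv : v ∈ Subgroup.closure S) : v * w = w * v := by
  induction hv using Subgroup.closure_induction with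
  | mem x hx => exact h x hx
  | one => simp
  | mul x y _ _ hx hy => exact Commute.mul_left hx hy
  | inv x _ hx => exact Commute.inv_left hx

theorem zc_central : zc ∈ Subgroup.center cov := by
  rw [Subgroup.mem_center_iff]
  rintro ⟨v, hv⟩
  refine Subtype.ext ?_
  show v * xg 24 = xg 24 * v
  refine commute_of_closure (xg '' Set.Ico 0 25) ?_ hv
  rintro _ ⟨i, hi, rfl⟩
  rw [Set.mem_Ico] at hi
  by_cases h : i = 24
  · rw [h]
  · rw [xg_rules (show i ≤ 24 by omega) (by norm_num : (24 : ℕ) < 25), crule,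
      if_neg (lt_irrefl _), if_neg h]
    simp only [Pc.ev_cons, Pc.ev_nil, mul_one]

theorem ker_proj_two : Nat.card proj.ker = 2 := by
  have h1 := Subgroup.card_eq_card_quotient_mul_card_subgroup proj.ker
  have h2 : Nat.card (cov ⧸ proj.ker) = 2 ^ 24 := by
    rw [Nat.card_congr (QuotientGroup.quotientKerEquivRange proj).toEquiv, range_proj, card_usub]
  rw [h2] at h1
  have hle := card_cov_le
  have h3 : 1 < Nat.card proj.ker := by
    rw [Finite.one_lt_card_iff_nontrivial]
    exact ⟨⟨1, one_mem _⟩, ⟨zc, proj_zc⟩, fun h => zc_ne_one (congrArg Subtype.val h).symm⟩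
  have h4 : Nat.card proj.ker ≤ 2 := by
    by_contra h
    have : 2 ^ 24 * 3 ≤ 2 ^ 24 * Nat.card proj.ker := Nat.mul_le_mul_left _ (by omega)
    omega
  omega

theorem card_cov : Nat.card cov = 2 ^ 25 := by
  rw [Subgroup.card_eq_card_quotient_mul_card_subgroup proj.ker,
    Nat.card_congr (QuotientGroup.quotientKerEquivRange proj).toEquiv, range_proj, card_usub,
    ker_proj_two]
  norm_num

theorem proj_ker (v : cov) (hv : proj v = 1) : v = 1 ∨ v = zc := by
  by_contra h
  push Not at h
  have h2 := (Nat.card_eq_two_iff' (1 : proj.ker)).1 ker_proj_two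
  exact h.2 (congrArg Subtype.val (h2.unique (y₁ := ⟨v, hv⟩) (y₂ := ⟨zc, proj_zc⟩)
    (fun e => h.1 (congrArg Subtype.val e)) fun e => zc_ne_one (congrArg Subtype.val e)))

theorem zc_mem_commutator : zc ∈ commutator cov := by
  have h := comChk_true
  simp only [comChk, Bool.and_eq_true, List.all_eq_true] at h
  obtain ⟨⟨⟨-, hinv⟩, hp⟩, hg⟩ := h
  have hi : ∀ i j, (i, j) ∈ [(0, 2), (1, 3), (4, 6), (5, 7)] →
      Pc.ev xc (cw j) = (Pc.ev xc (cw i))⁻¹ := by
    intro i j hij
    have := hinv _ hij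
    simp only [Bool.and_eq_true] at this
    refine eq_inv_of_mul_eq_one_left (Subtype.ext ?_)
    rw [← Pc.ev_append, coe_ev_xc, ev_xg_eq_of_chk this.1 this.2]
    rfl
  have e : ⁅Pc.ev xc (cw 0), Pc.ev xc (cw 1)⁆ = ⁅Pc.ev xc (cw 4), Pc.ev xc (cw 5)⁆ * zc := by
    rw [commutatorElement_def, commutatorElement_def, ← hi 0 2 (by decide), ← hi 1 3 (by decide),
      ← hi 4 6 (by decide), ← hi 5 7 (by decide), show zc = Pc.ev xc [24] from (mul_one _).symm,
      ← Pc.ev_append, ← Pc.ev_append, ← Pc.ev_append, ← Pc.ev_append, ← Pc.ev_append,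
      ← Pc.ev_append, ← Pc.ev_append]
    refine Subtype.ext ?_
    rw [coe_ev_xc, coe_ev_xc, ev_xg_eq_of_chk hp hg]
  rw [show zc = (⁅Pc.ev xc (cw 4), Pc.ev xc (cw 5)⁆)⁻¹ * ⁅Pc.ev xc (cw 0), Pc.ev xc (cw 1)⁆ by
    rw [e, inv_mul_cancel_left]]
  exact mul_mem (inv_mem (Subgroup.commutator_mem_commutator (Subgroup.mem_top _)
    (Subgroup.mem_top _))) (Subgroup.commutator_mem_commutator (Subgroup.mem_top _)
    (Subgroup.mem_top _))

end CfsgLib.FFourMult
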