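import Cfsg.Agent.FFourMult.Cover
import Cfsg.Agent.Schur.StableExtension

/-!
# The cover is stable under the simple reflections
-/

set_option autoImplicit false
set_option maxRecDepth 20000
set_option maxHeartbeats 400000

namespace CfsgLib.FFourMult

open Cfsg.Lie CfsgLib.Chevalley CfsgLib.ChevSimple.Two CfsgLib.Schur

attribute [local irreducible] el uGen xg perm nEl

/-- Embedding of twenty-four indices avoiding `p`. -/
def emb (p i : ℕ) : ℕ := if i < p then i else i + 1

/-- Its inverse. -/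
def dem (p s : ℕ) : ℕ := if s < p then s else s - 1

theorem emb_dem {p s : ℕ} (h : s ≠ p) : emb p (dem p s) = s := by
  unfold emb dem
  by_cases h1 : s < p
  · simp [h1]
  · rw [if_neg h1, if_neg (by omega)]; omega

theorem pGen_lt : ∀ f < 4, pGen f < 24 := by decide +kernel

theorem sq_chk : ∀ f < 4,
    (crule (pGen f) (pGen f)).all (fun s => Nat.blt s 25 && !Nat.beq s (pGen f)) = true := by
  decide +kernel

theorem img_invol : ∀ f < 4, ∀ r < 24, r ≠ pGen f → img f r < 24 ∧ img f (img f r) = r := by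
  decide +kernel

/-- The rules of the part away from `pGen f`. -/
def dRules (f : ℕ) : Pc.Rules :=
  (List.range 24).flatMap fun b => (List.range (b + 1)).map fun a =>
    ([b, a], (crule (emb (pGen f) b) (emb (pGen f) a)).map (dem (pGen f)))

theorem dRules_shaped : ∀ f < 4, Pc.shaped 2 24 (dRules f) = true := by decide +kernel

/-- The index set of the part away from `pGen f`. -/
def away (f : ℕ) : Set ℕ := {r | r < 25 ∧ r ≠ pGen f}

/-- The part of the cover away from `pGen f`. -/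
def dPart (f : ℕ) : Subgroup Amb := Subgroup.closure (xg '' away f)

theorem xg_mem_dPart {f r : ℕ} (h1 : r < 25) (h2 : r ≠ pGen f) : xg r ∈ dPart f :=
  Subgroup.subset_closure ⟨r, ⟨h1, h2⟩, rfl⟩

theorem ev_mem_dPart {f : ℕ} {w : List ℕ}
    (hw : w.all (fun s => Nat.blt s 25 && !Nat.beq s (pGen f)) = true) :
    Pc.ev xg w ∈ dPart f := by
  simp only [List.all_eq_true, Bool.and_eq_true, Bool.not_eq_true'] at hw
  refine Pc.ev_mem xg fun s hs => xg_mem_dPart (Nat.le_of_ble_eq_true (hw s hs).1) fun e => ?_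
  have h := (hw s hs).2
  rw [e, Nat.beq_refl] at h
  exact Bool.noConfusion h

theorem conj_mem_of_closure {H : Type*} [Group H] (S : Set H) (K : Subgroup H) {g : H}
    (h : ∀ x ∈ S, g * x * g⁻¹ ∈ K) {d : H} (hd : d ∈ Subgroup.closure S) : g * d * g⁻¹ ∈ K := by
  have : Subgroup.closure S ≤ K.comap (MulAut.conj g).toMonoidHom :=
    (Subgroup.closure_le _).2 h
  exact this hd

theorem conj_dPart {f : ℕ} (hf : f < 4) {d : Amb} (hd : d ∈ dPart f) :
    xg (pGen f) * d * (xg (pGen f))⁻¹ ∈ dPart f := by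
  refine conj_mem_of_closure (xg '' away f) (dPart f) ?_ hd
  rintro _ ⟨r, ⟨hr, hrp⟩, rfl⟩
  have hp := pGen_lt f hf
  by_cases h : r < 24
  · have hc := normChk_all
    simp only [List.all_eq_true, List.mem_range, normChk, Bool.or_eq_true] at hc
    have h2 := (hc f hf r h).resolve_left fun e => hrp (Nat.eq_of_beq_eq_true e)
    simp only [Bool.and_eq_true] at h2
    have e := ev_xg_eq_of_chk h2.1.2 h2.2
    simp only [Pc.ev_append, Pc.ev_cons, Pc.ev_nil, mul_one] at e
    rw [e, mul_inv_cancel_right]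
    exact ev_mem_dPart h2.1.1
  · obtain rfl : r = 24 := by omega
    have e : xg (pGen f) * xg 24 = xg 24 * xg (pGen f) := by
      rw [xg_rules (show pGen f ≤ 24 by omega) (by norm_num : (24 : ℕ) < 25), crule,
        if_neg (lt_irrefl _), if_neg (by omega)]
      simp only [Pc.ev_cons, Pc.ev_nil, mul_one]
    rw [e, mul_inv_cancel_right]
    exact xg_mem_dPart hr hrp

theorem split_dPart {f : ℕ} (hf : f < 4) {v : Amb} (hv : v ∈ cov) :
    v ∈ dPart f ∨ v * (xg (pGen f))⁻¹ ∈ dPart f := by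
  set x := xg (pGen f) with hx
  have hsq : x * x ∈ dPart f := by
    rw [hx, xg_rules le_rfl (by have := pGen_lt f hf; omega)]
    exact ev_mem_dPart (sq_chk f hf)
  have hv' : v ∈ Subgroup.closure (xg '' Set.Ico 0 25) := hv
  induction hv' using Subgroup.closure_induction with
  | mem y hy =>
    obtain ⟨r, hr, rfl⟩ := hy
    rw [Set.mem_Ico] at hr
    by_cases h : r = pGen f
    · right; rw [h, ← hx, mul_inv_cancel]; exact one_mem _
    · left; exact xg_mem_dPart hr.2 h
  | one => left; exact one_mem _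
  | mul y w hy hw ihy ihw =>
    rcases ihy hy with h1 | h1 <;> rcases ihw hw with h2 | h2
    · left; exact mul_mem h1 h2
    · right; rw [mul_assoc]; exact mul_mem h1 h2
    · right
      rw [show y * w * x⁻¹ = y * x⁻¹ * (x * w * x⁻¹) by group]
      exact mul_mem h1 (conj_dPart hf h2)
    · left
      rw [show y * w = y * x⁻¹ * (x * (w * x⁻¹) * x⁻¹) * (x * x) by group]
      exact mul_mem (mul_mem h1 (conj_dPart hf h2)) hsq
  | inv y hy ih =>
    rcases ih hy with h1 | h1
    · left; exact inv_mem h1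
    · right
      rw [show y⁻¹ * x⁻¹ = (x * x)⁻¹ * (x * (y * x⁻¹)⁻¹ * x⁻¹) by group]
      exact mul_mem (inv_mem hsq) (conj_dPart hf (inv_mem h1))

theorem dPart_le_cov (f : ℕ) : dPart f ≤ cov := by
  rw [dPart, Subgroup.closure_le]
  rintro _ ⟨r, -, rfl⟩
  exact xg_mem r

theorem le_card_dPart {f : ℕ} (hf : f < 4) : 2 ^ 24 ≤ Nat.card (dPart f) := by
  have hp : xg (pGen f) ∈ cov := xg_mem _
  let F : Bool × dPart f → cov := fun q =>
    bif q.1 then ⟨(q.2 : Amb) * xg (pGen f), mul_mem (dPart_le_cov f q.2.2) hp⟩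
    else ⟨(q.2 : Amb), dPart_le_cov f q.2.2⟩
  have hF : Function.Surjective F := by
    rintro ⟨v, hv⟩
    rcases split_dPart hf hv with h | h
    · exact ⟨(false, ⟨v, h⟩), rfl⟩
    · exact ⟨(true, ⟨_, h⟩), Subtype.ext (inv_mul_cancel_right _ _)⟩
  have := Nat.card_le_card_of_surjective F hF
  rw [card_cov, Nat.card_prod, Nat.card_eq_fintype_card (α := Bool), Fintype.card_bool] at this
  omega

theorem nEl_conj_inv {f s : ℕ} (hf : f < 4) (hs : s < 24) (hsp : s ≠ pGen f) :
    (nEl f)⁻¹ * uGen s * nEl f = uGen (img f s) := by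
  obtain ⟨h1, h2⟩ := img_invol f hf s hs hsp
  have e := nEl_conj hf h1 (by rw [h2]; exact hs)
  rw [h2] at e
  rw [← e]
  group

theorem phiW_cons (f s : ℕ) (w : List ℕ) : phiW f (s :: w) = phiW f [s] ++ phiW f w := by
  simp only [phiW, List.append_nil]

theorem phiW_fst {f : ℕ} (hf : f < 4) : ∀ w : List ℕ, (∀ s ∈ w, s < 25 ∧ s ≠ pGen f) →
    (Pc.ev xg (phiW f w)).1 = (nEl f)⁻¹ * (Pc.ev xg w).1 * nEl f
  | [], _ => by rw [phiW, Pc.ev_nil]; simp
  | s :: w, h => by
    rw [phiW_cons, Pc.ev_append, Prod.fst_mul,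
      phiW_fst hf w fun t ht => h t (List.mem_cons_of_mem _ ht), Pc.ev_cons, Prod.fst_mul]
    obtain ⟨hs, hsp⟩ := h s List.mem_cons_self
    have key : (Pc.ev xg (phiW f [s])).1 = (nEl f)⁻¹ * (xg s).1 * nEl f := by
      by_cases h24 : s < 24
      · have himg := (img_invol f hf s h24 hsp).1
        rw [xg_fst h24, nEl_conj_inv hf h24 hsp, phiW, show Nat.blt s 24 = true from
          Nat.ble_eq_true_of_le h24, cond_true, phiW, List.append_nil, Pc.ev_cons, Prod.fst_mul]
        rw [show ((fusRows.getD f []).getD s 24) = img f s from rfl, xg_fst himg]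
        cases (etaRows.getD f []).getD s false
        · rw [cond_false, Pc.ev_nil, Prod.fst_one, mul_one]
        · rw [cond_true, Pc.ev_cons, Pc.ev_nil, mul_one, xg_fst_ge (lt_irrefl 24), mul_one]
      · rw [xg_fst_ge h24, phiW, show Nat.blt s 24 = false from
          Bool.eq_false_iff.2 fun e => h24 (Nat.le_of_ble_eq_true e), cond_false, phiW,
          List.append_nil, Pc.ev_cons, Pc.ev_nil, mul_one, xg_fst_ge (lt_irrefl 24)]
        simp
    rw [key]
    group

/-- The generators of the graph of a reflection. -/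
def yg (f i : ℕ) : Amb × Amb := (xg (emb (pGen f) i), Pc.ev xg (phiW f [emb (pGen f) i]))

theorem ev_yg {f : ℕ} : ∀ w : List ℕ, (∀ s ∈ w, s ≠ pGen f) →
    Pc.ev (yg f) (w.map (dem (pGen f))) = (Pc.ev xg w, Pc.ev xg (phiW f w))
  | [], _ => rfl
  | s :: w, h => by
    rw [List.map_cons, Pc.ev_cons, ev_yg w fun t ht => h t (List.mem_cons_of_mem _ ht),
      phiW_cons, Pc.ev_append, Pc.ev_cons, yg, emb_dem (h s List.mem_cons_self)]
    rfl

theorem emb_ne (p i : ℕ) : emb p i ≠ p := by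
  unfold emb; split <;> omega

theorem emb_mono {p a b : ℕ} (h : a ≤ b) : emb p a ≤ emb p b := by
  unfold emb; split <;> split <;> omega

theorem emb_lt {p i : ℕ} (h : i < 24) : emb p i < 25 := by
  unfold emb; split <;> omega

theorem dem_emb (p i : ℕ) : dem p (emb p i) = i := by
  unfold emb dem
  by_cases h : i < p
  · simp [h]
  · rw [if_neg h, if_neg (by omega)]; omega

/-- The graph of a reflection on the part away from its fundamental generator. -/
def graph (f : ℕ) : Subgroup (Amb × Amb) := Pc.tailSubgroup (yg f) 24 0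

theorem card_graph_le {f : ℕ} (hf : f < 4) : Nat.card (graph f) ≤ 2 ^ 24 := by
  refine Pc.card_tailSubgroup_le (yg f) (dRules_shaped f hf) (fun r hr => ?_) 24 0 (Nat.zero_add _)
  simp only [dRules, List.mem_flatMap, List.mem_map, List.mem_range] at hr
  obtain ⟨b', hb, a', ha, rfl⟩ := hr
  set p := pGen f
  set b := emb p b' with hb'
  set a := emb p a' with ha'
  have hab : a ≤ b := emb_mono (by omega)
  have hb25 : b < 25 := emb_lt hb
  have hc := phiChk_all
  simp only [List.all_eq_true, List.mem_range, phiChk, Bool.or_eq_true] at hc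
  have h2 := (hc f hf b hb25 a (by omega)).resolve_left fun e => by
    rcases e with e | e
    · exact emb_ne p a' (Nat.eq_of_beq_eq_true e)
    · exact emb_ne p b' (Nat.eq_of_beq_eq_true e)
  simp only [Bool.and_eq_true, List.all_eq_true, Bool.not_eq_true'] at h2
  have hw : ∀ s ∈ crule b a, s < 25 ∧ s ≠ pGen f := fun s hs =>
    ⟨Nat.le_of_ble_eq_true (h2.1 s hs).1, fun e => by
      have := (h2.1 s hs).2
      rw [e, Nat.beq_refl] at this
      exact Bool.noConfusion this⟩
  have hba : ∀ s ∈ [b, a], s < 25 ∧ s ≠ pGen f := by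
    intro s hs
    simp only [List.mem_cons, List.not_mem_nil, or_false] at hs
    rcases hs with rfl | rfl
    · exact ⟨hb25, emb_ne p b'⟩
    · exact ⟨by omega, emb_ne p a'⟩
  have e1 : [b', a'] = [b, a].map (dem p) := by
    rw [List.map_cons, List.map_cons, List.map_nil, hb', ha', dem_emb, dem_emb]
  show Pc.ev (yg f) [b', a'] = Pc.ev (yg f) ((crule b a).map (dem p))
  rw [e1, ev_yg _ (fun s hs => (hba s hs).2), ev_yg _ (fun s hs => (hw s hs).2)]
  have e2 : Pc.ev xg [b, a] = Pc.ev xg (crule b a) := by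
    rw [Pc.ev_cons, Pc.ev_cons, Pc.ev_nil, mul_one]
    exact xg_rules hab hb25
  refine Prod.ext e2 (Prod.ext ?_ (Equiv.ext fun j => ?_))
  · rw [phiW_fst hf _ hba, phiW_fst hf _ hw, e2]
  · rw [ev_xg_snd, ev_xg_snd]
    have h3 := h2.2
    simp only [peq, List.all_eq_true, beq_iff_eq] at h3
    exact h3 j (List.mem_finRange j)

theorem range_graph_fst (f : ℕ) (hf : f < 4) :
    ((MonoidHom.fst Amb Amb).comp (graph f).subtype).range = dPart f := by
  rw [MonoidHom.range_comp, Subgroup.range_subtype, graph, Pc.tailSubgroup,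
    MonoidHom.map_closure, dPart]
  refine congrArg Subgroup.closure (Set.ext fun g => ⟨?_, ?_⟩)
  · rintro ⟨_, ⟨i, hi, rfl⟩, rfl⟩
    exact ⟨emb (pGen f) i, ⟨emb_lt hi.2, emb_ne _ _⟩, rfl⟩
  · rintro ⟨r, ⟨hr, hrp⟩, rfl⟩
    refine ⟨yg f (dem (pGen f) r), ⟨dem (pGen f) r, ⟨Nat.zero_le _, ?_⟩, rfl⟩, ?_⟩
    · have := pGen_lt f hf
      unfold dem; split <;> omega
    · show xg (emb (pGen f) (dem (pGen f) r)) = xg r
      rw [emb_dem hrp]

theorem graph_le {f : ℕ} (hf : f < 4) {g : Amb × Amb} (hg : g ∈ graph f) :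
    g.2 ∈ cov ∧ g.2.1 = (nEl f)⁻¹ * g.1.1 * nEl f := by
  induction hg using Subgroup.closure_induction with
  | mem x hx =>
    obtain ⟨i, hi, rfl⟩ := hx
    refine ⟨Pc.ev_mem xg fun s _ => xg_mem s, ?_⟩
    show (Pc.ev xg (phiW f [emb (pGen f) i])).1 = _
    rw [phiW_fst hf]
    · rw [Pc.ev_cons, Pc.ev_nil, mul_one]; rfl
    · intro s hs
      rw [List.mem_singleton] at hs
      subst hs
      exact ⟨emb_lt hi.2, emb_ne _ _⟩
  | one => exact ⟨one_mem _, by simp⟩
  | mul x y _ _ hx hy =>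
    refine ⟨mul_mem hx.1 hy.1, ?_⟩
    rw [Prod.snd_mul, Prod.fst_mul, hx.2, hy.2, Prod.fst_mul, Prod.fst_mul]
    group
  | inv x _ hx =>
    refine ⟨inv_mem hx.1, ?_⟩
    rw [Prod.snd_inv, Prod.fst_inv, hx.2, Prod.fst_inv, Prod.fst_inv]
    group

theorem dom_le_dPart {P : Cfsg.BNPair G₂₄} (hB : P.B = usub) {f : ℕ} (hf : f < 4)
    (hs : nEl f ∈ P.S) {v : cov} (hv : v ∈ Stable.dom proj (nEl f)) :
    (v : Amb) ∈ dPart f := by
  rw [Stable.mem_dom, range_proj] at hv
  rcases split_dPart hf v.2 with h | h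
  · exact h
  exfalso
  have hD : ∀ d ∈ dPart f, (nEl f)⁻¹ * d.1 * nEl f ∈ usub := by
    intro d hd
    induction hd using Subgroup.closure_induction with
    | mem x hx =>
      obtain ⟨r, ⟨-, hrp⟩, rfl⟩ := hx
      by_cases h24 : r < 24
      · rw [xg_fst h24, nEl_conj_inv hf h24 hrp]
        exact Pc.gen_mem_tailSubgroup uGen (Nat.zero_le _) (img_invol f hf r h24 hrp).1
      · rw [xg_fst_ge h24]; simp
    | one => simp
    | mul x y _ _ hx hy =>
      rw [Prod.fst_mul, show (nEl f)⁻¹ * (x.1 * y.1) * nEl f =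
        ((nEl f)⁻¹ * x.1 * nEl f) * ((nEl f)⁻¹ * y.1 * nEl f) by group]
      exact mul_mem hx hy
    | inv x _ hx =>
      rw [Prod.fst_inv, show (nEl f)⁻¹ * x.1⁻¹ * nEl f = ((nEl f)⁻¹ * x.1 * nEl f)⁻¹ by group]
      exact inv_mem hx
  have hp : (nEl f)⁻¹ * uGen (pGen f) * nEl f ∈ usub := by
    have h1 := hD _ h
    rw [Prod.fst_mul, Prod.fst_inv, xg_fst (pGen_lt f hf)] at h1
    rw [show (nEl f)⁻¹ * uGen (pGen f) * nEl f =
      ((nEl f)⁻¹ * ((v : Amb).1 * (uGen (pGen f))⁻¹) * nEl f)⁻¹ *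
        ((nEl f)⁻¹ * (v : Amb).1 * nEl f) by group]
    exact mul_mem (inv_mem h1) hv
  have hall : ∀ b ∈ usub, (nEl f)⁻¹ * b * ((nEl f)⁻¹)⁻¹ ∈ usub := by
    intro b hb
    refine conj_mem_of_closure (uGen '' Set.Ico 0 24) usub ?_ hb
    rintro _ ⟨i, hi, rfl⟩
    rw [inv_inv]
    by_cases h' : i = pGen f
    · rw [h']; exact hp
    · rw [nEl_conj_inv hf hi.2 h']
      exact Pc.gen_mem_tailSubgroup uGen (Nat.zero_le _) (img_invol f hf i hi.2 h').1
  obtain ⟨b, hb, hb'⟩ := BNPairs.exists_conj_not_mem hs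
  refine hb' ?_
  have h1 := hall b (hB ▸ hb)
  rw [inv_inv, ← hB] at h1
  rw [show nEl f * b * nEl f = nEl f * nEl f * ((nEl f)⁻¹ * b * nEl f) by group]
  exact mul_mem (P.sq_mem _ hs) h1

theorem stable_nEl {P : Cfsg.BNPair G₂₄} (hB : P.B = usub) {f : ℕ} (hf : f < 4)
    (hs : nEl f ∈ P.S) : Stable.Stable proj zc (nEl f) := by
  let π : graph f →* dPart f :=
    ((MonoidHom.fst Amb Amb).comp (graph f).subtype).codRestrict (dPart f) fun g =>
      (range_graph_fst f hf).le ⟨g, rfl⟩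
  have hsur : Function.Surjective π := by
    rintro ⟨d, hd⟩
    obtain ⟨g, hg⟩ := (range_graph_fst f hf).ge hd
    exact ⟨g, Subtype.ext hg⟩
  have hbij : Function.Bijective π :=
    hsur.bijective_of_nat_card_le ((card_graph_le hf).trans (le_card_dPart hf))
  let E := MulEquiv.ofBijective π hbij
  let ι : Stable.dom proj (nEl f) →* dPart f :=
    (cov.subtype.comp (Stable.dom proj (nEl f)).subtype).codRestrict (dPart f) fun v =>
      dom_le_dPart hB hf hs v.2
  let ψ : Stable.dom proj (nEl f) →* cov :=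
    ((MonoidHom.snd Amb Amb).comp ((graph f).subtype.comp (E.symm.toMonoidHom.comp ι))).codRestrict
      cov fun v => (graph_le hf (E.symm (ι v)).2).1
  refine ⟨ψ, fun v => ?_, fun v hv => ?_⟩
  · show ((E.symm (ι v)).1.2).1 = (nEl f)⁻¹ * ((v : cov) : Amb).1 * nEl f
    rw [(graph_le hf (E.symm (ι v)).2).2]
    have e : (E.symm (ι v)).1.1 = ((v : cov) : Amb) :=
      congrArg Subtype.val (E.apply_symm_apply (ι v))
    rw [e]
  · have hp := pGen_lt f hf
    have hmem : (xg 24, xg 24) ∈ graph f := by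
      have h1 : (24 : ℕ) = emb (pGen f) 23 := by unfold emb; rw [if_neg (by omega)]
      have h2 : yg f 23 = (xg 24, xg 24) := by
        rw [yg, ← h1, phiW, show Nat.blt 24 24 = false from rfl, cond_false, phiW,
          List.append_nil, Pc.ev_cons, Pc.ev_nil, mul_one]
      rw [← h2]
      exact Pc.gen_mem_tailSubgroup _ (Nat.zero_le _) (by norm_num)
    have e : E.symm (ι v) = ⟨(xg 24, xg 24), hmem⟩ := by
      refine E.symm_apply_eq.2 (Subtype.ext ?_)
      show ((v : cov) : Amb) = xg 24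
      rw [hv]; rfl
    refine Subtype.ext ?_
    show ((E.symm (ι v)).1).2 = xg 24
    rw [e]

end CfsgLib.FFourMult
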