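import Cfsg.Agent.FFourMult.Words
import Cfsg.Agent.FFourMult.Data
import Cfsg.Agent.FFourMult.OddData

/-!
# Checks of the data for the odd primes
-/

set_option autoImplicit false
set_option maxRecDepth 20000

namespace CfsgLib.FFourMult

open CfsgLib.ChevSimple.Two

/-- The code of a word in root numbers. -/
def wc' (w : List ℕ) : ℕ := wordC 52 (fun r => xCodes.getD r 0) w

/-- The codes are those of the words, and the roots are in range. -/
def elsOk (ws : List (List ℕ)) (cs : List ℕ) : Bool :=
  Nat.beq ws.length cs.length &&
    (List.range ws.length).all fun i =>
      ((ws.getD i []).all fun r => Nat.blt r 48) &&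
        Nat.beq (wc' (ws.getD i [])) (cs.getD i 0)

/-- The rules and the fusions hold. -/
def relOk (C : Schur.Pc.Cert) (cs : List ℕ) : Bool :=
  (C.rules.all fun q => Nat.beq (cprod cs q.1) (cprod cs q.2)) &&
    (List.range C.fus.length).all fun f => (List.range C.fusW).all fun s =>
      Nat.beq (cprod cs ((C.n + f) :: (C.fus.getD f ([], [])).1.getD s []))
        (cprod cs ((C.fus.getD f ([], [])).2.getD s [] ++ [C.n + f]))

/-- Pairwise distinct numbers. -/
def distinct : List ℕ → Bool
  | [] => true
  | a :: l => (l.all fun b => !Nat.beq a b) && distinct l

theorem distinct_sound : ∀ l : List ℕ, distinct l = true → l.Nodup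
  | [], _ => List.nodup_nil
  | a :: l, h => by
    simp only [distinct, Bool.and_eq_true, List.all_eq_true] at h
    refine List.nodup_cons.2 ⟨fun ha => ?_, distinct_sound l h.2⟩
    have := h.1 a ha
    simp at this

theorem els3_ok : elsOk words3 codes3 = true := by decide +kernel

theorem els5_ok : elsOk words5 codes5 = true := by decide +kernel

theorem els7_ok : elsOk words7 codes7 = true := by decide +kernel

theorem rel3_ok : relOk cert3 codes3 = true := by decide +kernel

theorem rel5_ok : relOk cert5 codes5 = true := by decide +kernel

theorem rel7_ok : relOk cert7 codes7 = true := by decide +kernel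

theorem cert3_check : cert3.check = true := by decide +kernel

theorem cert5_check : cert5.check = true := by decide +kernel

theorem cert7_check : cert7.check = true := by decide +kernel

theorem keys3 : distinct
    ((Schur.Pc.normalWords 3 6 0).map fun w => keyC codes3 2 0 w) = true := by decide +kernel

theorem keys5 : distinct
    ((Schur.Pc.normalWords 5 2 0).map fun w => keyC codes5 1 0 w) = true := by decide +kernel

theorem keys7 : distinct
    ((Schur.Pc.normalWords 7 2 0).map fun w => keyC codes7 0 1 w) = true := by decide +kernel

end CfsgLib.FFourMult
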