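import Cfsg.Agent.FFourMult.CoverStable
import Cfsg.Agent.FFourMult.CertChecks
import Cfsg.Agent.FFourMult.OddChecks
import Cfsg.Agent.CoverTab.Transfer

/-!
# The Schur multiplier of `F₄(2)` has order two
-/

set_option autoImplicit false
set_option maxRecDepth 20000
set_option maxHeartbeats 400000
set_option linter.style.haveILetI false

namespace CfsgLib.FFourMult

open Cfsg.Lie CfsgLib.Chevalley CfsgLib.ChevSimple.Two CfsgLib.Schur

attribute [local irreducible] el uGen xg perm nEl usub cov proj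

/-- There is a stem extension with kernel of order two. -/
theorem exists_stem_two : ∃ (Γ : Type) (_ : Group Γ) (_ : Finite Γ) (σ : Γ →* G₂₄),
    Cfsg.IsStemExtension σ ∧ Nat.card σ.ker = 2 := by
  obtain ⟨P, hB, hS⟩ := exists_bnPair_usub
  have hst : ∀ g, Stable.Stable proj zc g := Stable.stable_all P zc_central
    (hB.trans range_proj.symm) fun s hs => by
      obtain ⟨f, hf, rfl⟩ := hS s hs
      exact stable_nEl hB hf hs
  obtain ⟨E, iG, iF, π, ρ, hsur, hcen, hcard, hcomp, hne⟩ :=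
    Stable.exists_extension zc_central zc_ne_one zc_mul_self proj_zc proj_ker
      (by rw [range_proj, index_usub]; decide) hst
  refine ⟨E, iG, iF, π, ⟨hsur, hcen, fun u hu => ?_⟩, hcard⟩
  have hρk : ρ zc ∈ π.ker := by
    rw [MonoidHom.mem_ker, ← MonoidHom.comp_apply, hcomp, proj_zc]
  have hρc : ρ zc ∈ commutator E := by
    have h : (commutator cov).map ρ ≤ commutator E := by
      rw [commutator_def, Subgroup.map_commutator, commutator_def]
      exact Subgroup.commutator_mono le_top le_top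
    exact h (Subgroup.mem_map_of_mem ρ zc_mem_commutator)
  by_cases h1 : u = 1
  · rw [h1]; exact one_mem _
  · have h2 := (Nat.card_eq_two_iff' (1 : π.ker)).1 hcard
    have e : (⟨u, hu⟩ : π.ker) = ⟨ρ zc, hρk⟩ :=
      h2.unique (fun e => h1 (congrArg Subtype.val e)) fun e => hne (congrArg Subtype.val e)
    rw [show u = ρ zc from congrArg Subtype.val e]
    exact hρc

variable {Γ : Type} [Group Γ] [Finite Γ] {σ : Γ →* G₂₄}

/-- An elementary abelian kernel has order at most two. -/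
theorem card_ker_le_two (hσ : Cfsg.IsStemExtension σ) (hexp : ∀ z ∈ σ.ker, z ^ 2 = 1) :
    Nat.card σ.ker ≤ 2 := by
  obtain ⟨D, hD, -, h⟩ := certOne.ker_pow_mem σ hσ (fun z hz => hexp z hz) certOne_eqs certOne_lin
    uGen (fun a b hab hb => uGen_rules hab hb)
    (fun f hf => ⟨nEl f, fun s hs hi => nEl_conj hf hs hi⟩)
    (by
      have := card_usub
      rw [usub] at this
      exact this.ge)
    (by
      have := index_usub
      rw [usub] at this
      show ¬ 2 ∣ (Pc.tailSubgroup uGen 24 0).index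
      rw [this]; decide)
  have hle : σ.ker ≤ Subgroup.zpowers D := fun u hu => by
    simpa [show certOne.q = 1 from rfl] using h u hu
  refine (Subgroup.card_le_of_le hle).trans ?_
  rw [Nat.card_zpowers]
  exact Nat.le_of_dvd two_pos (orderOf_dvd_of_pow_eq_one (hexp D hD))

/-- A kernel of exponent four has exponent two. -/
theorem sq_eq_one_of_exp_four (hσ : Cfsg.IsStemExtension σ) (hexp : ∀ z ∈ σ.ker, z ^ 4 = 1) :
    ∀ z ∈ σ.ker, z ^ 2 = 1 := by
  obtain ⟨D, -, hD0, h⟩ := certTwo.ker_pow_mem σ hσ (fun z hz => hexp z hz) certTwo_eqs certTwo_lin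
    uGen (fun a b hab hb => uGen_rules hab hb)
    (fun f hf => ⟨nEl f, fun s hs hi => nEl_conj hf hs hi⟩)
    (by
      have := card_usub
      rw [usub] at this
      exact this.ge)
    (by
      have := index_usub
      rw [usub] at this
      show ¬ 2 ∣ (Pc.tailSubgroup uGen 24 0).index
      rw [this]; decide)
  intro z hz
  have h2 := h z hz
  rw [hD0 rfl, one_pow, Subgroup.zpowers_one_eq_bot, Subgroup.mem_bot] at h2
  exact h2

theorem mat_el_getD (ws : List (List ℕ)) (cs : List ℕ) (h : elsOk ws cs = true) (i : ℕ) :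
    mat (el (ws.getD i [])) = toMat chevF4 (cs.getD i (oneC 52)) := by
  simp only [elsOk, Bool.and_eq_true, List.all_eq_true, List.mem_range] at h
  have hl : ws.length = cs.length := Nat.eq_of_beq_eq_true h.1
  by_cases hi : i < ws.length
  · rw [el_mat _ fun r hr => Nat.le_of_ble_eq_true ((h.2 i hi).1 r hr)]
    have e : wc' (ws.getD i []) = cs.getD i 0 := Nat.eq_of_beq_eq_true (h.2 i hi).2
    rw [List.getD_eq_getElem cs _ (hl ▸ hi), ← List.getD_eq_getElem cs 0 (hl ▸ hi), ← e, wc, wc']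
  · rw [List.getD_eq_default _ _ (Nat.le_of_not_lt hi),
      List.getD_eq_default _ _ (hl ▸ Nat.le_of_not_lt hi), el_nil, map_one, toMat_one]

/-- The kernel has no exponent `p` for an odd prime with a certificate. -/
theorem ker_eq_bot_of_cert (C : Pc.Cert) (ws : List (List ℕ)) (cs : List ℕ) (a b : ℕ)
    (hp : C.p.Prime) (hels : elsOk ws cs = true) (hrel : relOk C cs = true)
    (hcheck : C.check = true)
    (hkeys : distinct ((Pc.normalWords C.p C.n 0).map fun w => keyC cs a b w) = true)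
    (hG : ¬ C.p ^ (C.n + 1) ∣ 2 ^ 24 * 197358525)
    (hσ : Cfsg.IsStemExtension σ) (hexp : ∀ z ∈ σ.ker, z ^ C.p = 1) : σ.ker = ⊥ := by
  set y : ℕ → G₂₄ := fun i => el (ws.getD i []) with hy
  have hm : ∀ i, mat (y i) = toMat chevF4 (cs.getD i (oneC 52)) := mat_el_getD ws cs hels
  simp only [relOk, Bool.and_eq_true, List.all_eq_true, List.mem_range] at hrel
  have hrules : ∀ q ∈ C.rules, Pc.ev y q.1 = Pc.ev y q.2 := fun q hq =>
    ev_eq_of_cprod hm (hrel.1 q hq)
  have hfus : ∀ F ∈ C.fus, ∃ g : G₂₄, ∀ s < C.fusW,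
      g * Pc.ev y (F.1.getD s []) * g⁻¹ = Pc.ev y (F.2.getD s []) := by
    intro F hF
    obtain ⟨f, hf, rfl⟩ := List.getElem_of_mem hF
    refine ⟨y (C.n + f), fun s hs => ?_⟩
    have e := ev_eq_of_cprod hm (hrel.2 f hf s hs)
    rw [List.getD_eq_getElem C.fus _ hf, Pc.ev_cons, Pc.ev_append, Pc.ev_cons, Pc.ev_nil,
      mul_one] at e
    rw [e, mul_inv_cancel_right]
  have hle : C.p ^ C.n ≤ Nat.card (Pc.tailSubgroup y C.n 0) :=
    le_card_of_keys hm a b C.p C.n (distinct_sound _ hkeys)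
  have hsh : Pc.shaped C.p C.n C.rules = true := by
    simp only [Pc.Cert.check, Bool.and_eq_true] at hcheck
    exact hcheck.1.1
  have hge := Pc.card_tailSubgroup_le y hsh hrules C.n 0 (Nat.zero_add _)
  have hidx : ¬ C.p ∣ (Pc.tailSubgroup y C.n 0).index := by
    intro hdvd
    refine hG ?_
    rw [← card_G, ← Subgroup.index_mul_card (Pc.tailSubgroup y C.n 0), le_antisymm hge hle,
      pow_succ']
    exact mul_dvd_mul_right hdvd _
  exact C.ker_eq_bot σ hσ hp hexp hcheck y hrules hfus hle hidx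

/-- A prime dividing the order only once. -/
theorem ker_eq_bot_of_once {p : ℕ} (hp : p.Prime) (h1 : p ∣ Nat.card G₂₄)
    (h2 : ¬ p ^ 2 ∣ Nat.card G₂₄) (hσ : Cfsg.IsStemExtension σ)
    (hexp : ∀ z ∈ σ.ker, z ^ p = 1) : σ.ker = ⊥ := by
  haveI : Fact p.Prime := ⟨hp⟩
  obtain ⟨g, hg⟩ := exists_prime_orderOf_dvd_card' (G := G₂₄) p h1
  refine ker_eq_bot_of_index_zpowers hp g (fun hdvd => h2 ?_) σ hσ hexp
  rw [← Subgroup.index_mul_card (Subgroup.zpowers g), Nat.card_zpowers, hg, pow_two]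
  exact mul_dvd_mul_right hdvd _

theorem prime_dvd_card_G {p : ℕ} (hp : p.Prime) (h : p ∣ Nat.card G₂₄) :
    p = 2 ∨ p = 3 ∨ p = 5 ∨ p = 7 ∨ p = 13 ∨ p = 17 := by
  rw [card_G, show 197358525 = 3 ^ 6 * 5 ^ 2 * 7 ^ 2 * 13 * 17 by norm_num] at h
  simp only [hp.dvd_mul] at h
  rcases h with h | ((((h | h) | h) | h) | h)
  · exact Or.inl ((Nat.prime_dvd_prime_iff_eq hp Nat.prime_two).1 (hp.dvd_of_dvd_pow h))
  · exact Or.inr (Or.inl
      ((Nat.prime_dvd_prime_iff_eq hp Nat.prime_three).1 (hp.dvd_of_dvd_pow h)))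
  · exact Or.inr (Or.inr (Or.inl
      ((Nat.prime_dvd_prime_iff_eq hp (by norm_num)).1 (hp.dvd_of_dvd_pow h))))
  · exact Or.inr (Or.inr (Or.inr (Or.inl
      ((Nat.prime_dvd_prime_iff_eq hp (by norm_num)).1 (hp.dvd_of_dvd_pow h)))))
  · exact Or.inr (Or.inr (Or.inr (Or.inr (Or.inl
      ((Nat.prime_dvd_prime_iff_eq hp (by norm_num)).1 h)))))
  · exact Or.inr (Or.inr (Or.inr (Or.inr (Or.inr
      ((Nat.prime_dvd_prime_iff_eq hp (by norm_num)).1 h)))))

/-- Odd primes do not divide the multiplier. -/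
theorem eq_two_of_dvd_ker (hσ : Cfsg.IsStemExtension σ) {p : ℕ} (hp : p.Prime)
    (h : p ∣ Nat.card σ.ker) : p = 2 := by
  haveI : Fact p.Prime := ⟨hp⟩
  by_contra hne
  refine not_dvd_card_ker_of_exponent_p (G := G₂₄) (p := p) (fun Δ _ _ τ hτ hexp => ?_) σ hσ h
  rcases prime_dvd_card_G hp (prime_dvd_card_of_dvd_card_ker σ hσ h) with
    rfl | rfl | rfl | rfl | rfl | rfl
  · exact absurd rfl hne
  · exact ker_eq_bot_of_cert cert3 words3 codes3 2 0 (by rw [show cert3.p = 3 from rfl]; norm_num)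
      els3_ok rel3_ok cert3_check keys3
      (by rw [show cert3.p = 3 from rfl, show cert3.n = 6 from rfl]; norm_num) hτ hexp
  · exact ker_eq_bot_of_cert cert5 words5 codes5 1 0 (by rw [show cert5.p = 5 from rfl]; norm_num)
      els5_ok rel5_ok cert5_check keys5
      (by rw [show cert5.p = 5 from rfl, show cert5.n = 2 from rfl]; norm_num) hτ hexp
  · exact ker_eq_bot_of_cert cert7 words7 codes7 0 1 (by rw [show cert7.p = 7 from rfl]; norm_num)
      els7_ok rel7_ok cert7_check keys7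
      (by rw [show cert7.p = 7 from rfl, show cert7.n = 2 from rfl]; norm_num) hτ hexp
  · exact ker_eq_bot_of_once hp (by rw [card_G]; norm_num) (by rw [card_G]; norm_num) hτ hexp
  · exact ker_eq_bot_of_once hp (by rw [card_G]; norm_num) (by rw [card_G]; norm_num) hτ hexp

/-- Every kernel has exponent two. -/
theorem sq_eq_one (hσ : Cfsg.IsStemExtension σ) : ∀ z ∈ σ.ker, z ^ 2 = 1 := by
  set N := powSubgroup σ.ker hσ.2.1 4 with hN
  haveI : N.Normal := powSubgroup_normal σ.ker hσ.2.1 4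
  have hNle : N ≤ σ.ker := powSubgroup_le σ.ker hσ.2.1 4
  have hker : (QuotientGroup.lift N σ hNle).ker = σ.ker.map (QuotientGroup.mk' N) :=
    QuotientGroup.ker_lift N σ hNle
  have h4 : ∀ z ∈ σ.ker, ∃ v ∈ σ.ker, v ^ 4 = z ^ 2 := by
    intro z hz
    have h := sq_eq_one_of_exp_four (isStemExtension_lift σ hσ N hNle) (by
      rw [hker]
      rintro _ ⟨w, hw, rfl⟩
      rw [← map_pow]
      exact (QuotientGroup.eq_one_iff _).2 ⟨w, hw, rfl⟩) (QuotientGroup.mk' N z)
      (hker ▸ Subgroup.mem_map_of_mem _ hz)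
    rw [← map_pow] at h
    exact (QuotientGroup.eq_one_iff _).1 h
  set S := powSubgroup σ.ker hσ.2.1 2 with hS
  have hSle : S ≤ σ.ker := powSubgroup_le σ.ker hσ.2.1 2
  have hsurj : Function.Surjective (fun x : S => x ^ 2) := by
    rintro ⟨_, w, hw, rfl⟩
    obtain ⟨v, hv, hvw⟩ := h4 w hw
    exact ⟨⟨v ^ 2, v, hv, rfl⟩, Subtype.ext (show (v ^ 2) ^ 2 = w ^ 2 by rw [← pow_mul, ← hvw])⟩
  have hinj := Finite.injective_iff_surjective.2 hsurj
  have hcard : Nat.card S = 1 := by
    by_contra hne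
    obtain ⟨p, hp, hdvd⟩ := Nat.exists_prime_and_dvd hne
    obtain rfl := eq_two_of_dvd_ker hσ hp (hdvd.trans (Subgroup.card_dvd_of_le hSle))
    haveI : Fact (2 : ℕ).Prime := ⟨hp⟩
    obtain ⟨s, hs⟩ := exists_prime_orderOf_dvd_card' (G := S) 2 hdvd
    have : s = 1 := hinj (show s ^ 2 = 1 ^ 2 by rw [one_pow, ← hs, pow_orderOf_eq_one])
    rw [this, orderOf_one] at hs
    exact absurd hs (by norm_num)
  intro z hz
  exact Subgroup.mem_bot.1 ((Subgroup.eq_bot_of_card_eq S hcard).le ⟨z, hz, rfl⟩)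

/-- The multiplier of `F₄(2)`. -/
theorem hasCyclicSchurMultiplier_G : Cfsg.HasCyclicSchurMultiplier G₂₄ 2 := by
  haveI : Fact (2 : ℕ).Prime := ⟨Nat.prime_two⟩
  refine ⟨?_, fun Γ _ _ σ hσ => ?_⟩
  · obtain ⟨Γ, iG, iF, σ, hσ, hc⟩ := exists_stem_two
    haveI : IsCyclic σ.ker := isCyclic_of_prime_card (p := 2) hc
    exact ⟨Γ, iG, iF, σ, hσ, ⟨mulEquivOfCyclicCardEq
      (by rw [hc, Nat.card_congr Multiplicative.toAdd, Nat.card_zmod])⟩⟩
  · have hle := card_ker_le_two hσ (sq_eq_one hσ)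
    rcases Nat.lt_or_ge (Nat.card σ.ker) 2 with h | h
    · haveI : Subsingleton σ.ker := (Finite.card_le_one_iff_subsingleton).1 (by omega)
      exact ⟨1, fun x => ⟨1, Subsingleton.elim _ _⟩⟩
    · have hc : Nat.card σ.ker = 2 := by omega
      haveI : IsCyclic σ.ker := isCyclic_of_prime_card (p := 2) hc
      let e : Multiplicative (ZMod 2) ≃* σ.ker := mulEquivOfCyclicCardEq
        (by rw [hc, Nat.card_congr Multiplicative.toAdd, Nat.card_zmod])
      exact ⟨e.toMonoidHom, e.surjective⟩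

theorem hasCyclic_of_equiv {G : Type} [Group G] {H : Type*} [Group H]
    (h : Cfsg.HasCyclicSchurMultiplier G 2) (e : H ≃* G) : Cfsg.HasCyclicSchurMultiplier H 2 :=
  CoverTab.hasSchurMultiplier_transfer e.symm h

/-- The multiplier of `F₄` over a field with two elements. -/
theorem hasCyclicSchurMultiplier_F4 {F : Type*} [Field F] [Fintype F]
    (hF : Fintype.card F = 2) :
    Cfsg.HasCyclicSchurMultiplier ↥(chevF4.group F) 2 :=
  have h : Nonempty (↥(chevF4.group F) ≃* G₂₄) := group_equiv_of_card_two good_F4 hF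
  h.elim fun e => hasCyclic_of_equiv hasCyclicSchurMultiplier_G e

end CfsgLib.FFourMult
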