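import Cfsg.Agent.FFourMult.Words
import Cfsg.Agent.FFourMult.Data

/-!
# The rules of the unipotent subgroup and the action of the simple reflections
-/

set_option autoImplicit false
set_option maxRecDepth 20000

namespace CfsgLib.FFourMult

open Cfsg.Lie CfsgLib.ChevSimple.Two

theorem xCodes_ok : ∀ r < chevF4.nroots,
    toMat chevF4 (xCodes.getD r 0) = chevF4.x (ZMod 2) r 1 := by decide +kernel

/-- The code of a word in root numbers. -/
def wc (w : List ℕ) : ℕ := wordC 52 (fun r => xCodes.getD r 0) w

/-- The root numbers of the positive generators. -/
def up (w : List ℕ) : List ℕ := w.map (24 + ·)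

/-- The right hand side of the rule for `(b, a)`. -/
def rule (b a : ℕ) : List ℕ := (rows.getD b []).getD a []

/-- A rule holds for the root elements. -/
def relChk (b a : ℕ) : Bool := Nat.beq (wc (up [b, a])) (wc (up (rule b a)))

theorem relChk_all :
    ((List.range 24).all fun b => (List.range (b + 1)).all fun a => relChk b a) = true := by
  decide +kernel

/-- The fundamental root of the `f`th reflection. -/
def simpleR (f : ℕ) : ℕ := [33, 27, 25, 24].getD f 0

/-- The root numbers of the `f`th reflection. -/
def nWord (f : ℕ) : List ℕ := [simpleR f, 47 - simpleR f, simpleR f]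

/-- The image of a generator under a reflection. -/
def img (f s : ℕ) : ℕ := (fusRows.getD f []).getD s 24

/-- A reflection moves the root elements as tabled. -/
def conjChk (f s : ℕ) : Bool :=
  Nat.ble 24 (img f s) || Nat.beq (wc (nWord f ++ [24 + s])) (wc ([24 + img f s] ++ nWord f))

theorem conjChk_all :
    ((List.range 4).all fun f => (List.range 24).all fun s => conjChk f s) = true := by
  decide +kernel

end CfsgLib.FFourMult
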