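import Cfsg.Agent.FFourMult.RootChecks
import Cfsg.Agent.Chevalley.BNPair
import Cfsg.Agent.Chevalley.Frames
import Cfsg.Agent.S1062

/-!
# The unipotent subgroup of `F₄(2)` as a Borel subgroup and a Sylow `2`-subgroup
-/

set_option autoImplicit false
set_option linter.style.haveILetI false

namespace CfsgLib.FFourMult

open Cfsg.Lie CfsgLib.Chevalley CfsgLib.ChevSimple.Two CfsgLib.Schur
open scoped MatrixGroups

theorem goodW : GoodWeyl chevF4 := goodWeyl_of_mem (by simp)

theorem el_mat (w : List ℕ) (hw : ∀ r ∈ w, r < 48) : mat (el w) = toMat chevF4 (wc w) :=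
  coe_wordX good_F4 (fun r => xCodes.getD r 0) xCodes_ok w hw

theorem el_eq {u w : List ℕ} (hu : ∀ r ∈ u, r < 48) (hw : ∀ r ∈ w, r < 48)
    (h : Nat.beq (wc u) (wc w) = true) : el u = el w := by
  refine mat_injective ?_
  rw [el_mat u hu, el_mat w hw, Nat.eq_of_beq_eq_true h]

theorem el_append (u w : List ℕ) : el (u ++ w) = el u * el w :=
  Subtype.ext (by simp [el, wordX])

theorem el_nil : el [] = 1 := Subtype.ext (by simp [el, wordX])

/-- The generators of the unipotent subgroup. -/
def uGen (i : ℕ) : G₂₄ := el [24 + i]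

theorem ev_uGen (w : List ℕ) : Pc.ev uGen w = el (up w) := by
  induction w with
  | nil => exact el_nil.symm
  | cons a w ih => rw [Pc.ev_cons, ih]; exact (el_append [24 + a] (up w)).symm

theorem up_lt {w : List ℕ} (h : ∀ s ∈ w, s < 24) : ∀ r ∈ up w, r < 48 := by
  intro r hr
  obtain ⟨s, hs, rfl⟩ := List.mem_map.1 hr
  have := h s hs
  omega

theorem rule_lt : ((List.range 24).all fun b => (List.range (b + 1)).all fun a =>
    (rule b a).all fun s => Nat.blt s 24) = true := by decide +kernel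

theorem mem_rule_lt {b a : ℕ} (hab : a ≤ b) (hb : b < 24) {s : ℕ} (hs : s ∈ rule b a) :
    s < 24 := by
  have := rule_lt
  simp only [List.all_eq_true, List.mem_range] at this
  exact Nat.le_of_ble_eq_true (this b hb a (by omega) s hs)

theorem uGen_rules {b a : ℕ} (hab : a ≤ b) (hb : b < 24) :
    uGen b * uGen a = Pc.ev uGen (rule b a) := by
  have h := relChk_all
  simp only [List.all_eq_true, List.mem_range, relChk] at h
  rw [ev_uGen, show uGen b * uGen a = el (up [b, a]) from (el_append [24 + b] [24 + a]).symm]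
  refine el_eq (up_lt ?_) (up_lt fun s hs => mem_rule_lt hab hb hs) (h b hb a (by omega))
  intro s hs
  simp only [List.mem_cons, List.not_mem_nil, or_false] at hs
  omega

/-- The reflection elements. -/
def nEl (f : ℕ) : G₂₄ := el (nWord f)

theorem nWord_lt : ∀ f < 4, ∀ r ∈ nWord f, r < 48 := by decide +kernel

theorem nEl_conj {f s : ℕ} (hf : f < 4) (hs : s < 24) (hi : img f s < 24) :
    nEl f * uGen s * (nEl f)⁻¹ = uGen (img f s) := by
  have h := conjChk_all
  simp only [List.all_eq_true, List.mem_range, conjChk, Bool.or_eq_true] at h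
  have h2 := (h f hf s hs).resolve_left fun hle => by
    have := Nat.le_of_ble_eq_true hle; omega
  rw [mul_inv_eq_iff_eq_mul, uGen, uGen, nEl, ← el_append, ← el_append]
  refine el_eq ?_ ?_ h2
  · intro r hr
    rcases List.mem_append.1 hr with hr | hr
    · exact nWord_lt f hf r hr
    · simp only [List.mem_cons, List.not_mem_nil, or_false] at hr; omega
  · intro r hr
    rcases List.mem_append.1 hr with hr | hr
    · simp only [List.mem_cons, List.not_mem_nil, or_false] at hr; omega
    · exact nWord_lt f hf r hr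

/-- The unipotent subgroup. -/
def usub : Subgroup G₂₄ := Pc.tailSubgroup uGen 24 0

theorem coe_uGen {i : ℕ} (hi : i < 24) :
    (uGen i : GL chevF4.Idx (ZMod 2)) = X good_F4 ⟨24 + i, show 24 + i < 48 by omega⟩ 1 := by
  show wordX good_F4 [24 + i] = _
  simp only [wordX, List.map_cons, List.map_nil, List.prod_cons, List.prod_nil, mul_one, X2]
  exact dif_pos (show 24 + i < chevF4.nroots from show 24 + i < 48 by omega)

theorem usub_eq : usub = (chevF4.posUnipotent (ZMod 2)).subgroupOf (chevF4.group (ZMod 2)) := by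
  apply Subgroup.map_injective (f := (chevF4.group (ZMod 2)).subtype) Subtype.val_injective
  rw [Subgroup.subgroupOf_map_subtype,
    inf_eq_left.2 ((pos_le_borel chevF4).trans (borel_le_group goodW)), usub, Pc.tailSubgroup,
    MonoidHom.map_closure, posUnipotent_eq good_F4]
  refine le_antisymm ((Subgroup.closure_le _).2 ?_) ?_
  · rintro _ ⟨_, ⟨i, hi, rfl⟩, rfl⟩
    rw [Set.mem_Ico] at hi
    rw [SetLike.mem_coe, Subgroup.coe_subtype, coe_uGen hi.2]
    refine X_mem_uGe (b := false) good_F4 ?_ ?_ 1 <;> exact show 24 ≤ 24 + i by omega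
  · refine (Subgroup.closure_le _).2 ?_
    rintro g ⟨r, h1, -, t, rfl⟩
    have ht : t = 0 ∨ t = 1 := by revert t; decide
    rcases ht with rfl | rfl
    · rw [X_zero]; exact one_mem _
    have h48 : (r : ℕ) < 48 := r.isLt
    have h24 : 24 ≤ (r : ℕ) := h1
    have e : (⟨24 + (r.1 - 24), show 24 + (r.1 - 24) < 48 by omega⟩ : Root chevF4) = r :=
      Fin.ext (show 24 + (r.1 - 24) = r.1 by omega)
    refine Subgroup.subset_closure ⟨uGen (r.1 - 24), ⟨r.1 - 24, ?_, rfl⟩, ?_⟩
    · rw [Set.mem_Ico]; omega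
    · rw [Subgroup.coe_subtype, coe_uGen (by omega), e]

theorem card_usub : Nat.card usub = 2 ^ 24 := by
  rw [usub_eq, Nat.card_congr (Subgroup.subgroupOfEquivOfLe
    ((pos_le_borel chevF4).trans (borel_le_group (F := ZMod 2) goodW))).toEquiv,
    posUnipotent_eq good_F4, natCard_uGe goodW.toGoodUni, Nat.card_zmod]
  rfl

theorem card_G : Nat.card G₂₄ = 2 ^ 24 * 197358525 := by
  rw [Cfsg.Agent.S1062.result (F := ZMod 2) (ZMod.card 2)]
  norm_num

theorem index_usub : usub.index = 197358525 := by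
  have h := Subgroup.index_mul_card usub
  rw [card_usub, card_G, mul_comm (2 ^ 24)] at h
  exact Nat.eq_of_mul_eq_mul_right (by positivity) h

theorem diag_eq_bot : chevF4.diagonalSubgroup (ZMod 2) = ⊥ := by
  have := Cfsg.Agent.S1035.result (F := ZMod 2) (ZMod.card 2) (Cfsg.Lie.chevF4, 1) (by simp)
  refine Subgroup.eq_bot_of_card_eq _ ?_
  simpa using this

theorem borel_eq : (chevF4.borelSubgroup (ZMod 2)).subgroupOf (chevF4.group (ZMod 2)) = usub := by
  rw [usub_eq, ChevalleyDatum.borelSubgroup, diag_eq_bot, sup_bot_eq]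

theorem mat_apply (g : G₂₄) :
    mat g = ((g : GL chevF4.Idx (ZMod 2)) : Matrix chevF4.Idx chevF4.Idx (ZMod 2)) := rfl

theorem nEl_coe (f : Fin chevF4.rank) :
    ((nEl f : GL chevF4.Idx (ZMod 2)) : Matrix chevF4.Idx chevF4.Idx (ZMod 2)) =
      chevF4.nMat (ZMod 2) (chevF4.simple f) 1 := by
  have hneg : (-1 : ZMod 2) = 1 := by decide
  have h : ∀ f : Fin 4, chevF4.simple f = simpleR f ∧ chevF4.neg (simpleR f) = 47 - simpleR f := by
    decide +kernel
  obtain ⟨h1, h2⟩ := h f
  rw [← mat_apply, nEl, el_mat _ (nWord_lt f f.isLt), wc, nWord]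
  simp only [ChevalleyDatum.nMat, ChevalleyDatum.nWord, ChevalleyDatum.wordMat, List.map_cons,
    List.map_nil, List.prod_cons, List.prod_nil, mul_one, inv_one, hneg, h1, h2, ← mul_assoc]
  simp only [wordC, List.foldl_cons, List.foldl_nil]
  have hf : simpleR f < 48 ∧ 47 - simpleR f < 48 := by
    have : ∀ f : Fin 4, simpleR f < 48 ∧ 47 - simpleR f < 48 := by decide +kernel
    exact this f
  rw [toMat_mul, toMat_mul, toMat_mul, toMat_one, one_mul, xCodes_ok _ hf.1, xCodes_ok _ hf.2]

/-- The Tits system with Borel subgroup the unipotent subgroup. -/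
theorem exists_bnPair_usub : ∃ P : Cfsg.BNPair G₂₄, P.B = usub ∧
    ∀ s ∈ P.S, ∃ f < 4, s = nEl f := by
  obtain ⟨C, M, R, h⟩ := exists_rootGood_of_mem (D := chevF4) (by simp)
  obtain ⟨P, hB, -, hS⟩ := exists_bnPair (F := ZMod 2) goodW h
  refine ⟨P, hB.trans borel_eq, fun s hs => ?_⟩
  rw [hS] at hs
  obtain ⟨i, hi, e⟩ := hs
  exact ⟨i, hi, Subtype.ext (Units.ext (e.trans (nEl_coe ⟨i, hi⟩).symm))⟩

end CfsgLib.FFourMult
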