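import Cfsg.Agent.Schur.PcClosure
import Cfsg.Agent.ChevSimple.Two.Bits
import Cfsg.Agent.Chevalley.WeylData
import Cfsg.Prelude.Def_ChevF4

/-!
# Elements of `F₄(2)` given by words, and their codes
-/

set_option autoImplicit false

namespace CfsgLib.FFourMult

open Cfsg.Lie CfsgLib.Chevalley CfsgLib.ChevSimple.Two
open scoped MatrixGroups Matrix

/-- The product of codes. -/
def cprod (codes : List ℕ) (w : List ℕ) : ℕ :=
  w.foldl (fun K i => mulC 52 K (codes.getD i (oneC 52))) (oneC 52)

/-- A row of a product of codes. -/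
def rowC (codes : List ℕ) (a : ℕ) (w : List ℕ) : ℕ :=
  w.foldl (fun r i => rowMul 52 r (codes.getD i (oneC 52)) 52) (2 ^ a)

/-- `F₄(2)`. -/
abbrev G₂₄ : Type := ↥(chevF4.group (ZMod 2))

theorem good_F4 : Good chevF4 := (goodWeyl_of_mem (D := chevF4) (by simp)).good

/-- The element of a word in root numbers. -/
def el (w : List ℕ) : G₂₄ := ⟨wordX good_F4 w, wordX_mem good_F4 w⟩

/-- The matrix of an element. -/
def mat : G₂₄ →* Matrix chevF4.Idx chevF4.Idx (ZMod 2) :=
  (Units.coeHom _).comp (chevF4.group (ZMod 2)).subtype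

theorem mat_injective : Function.Injective mat := fun _ _ h => Subtype.ext (Units.ext h)

theorem dim_F4 : dim chevF4 = 52 := rfl

theorem toMat_one : toMat chevF4 (oneC 52) = 1 := toMat_oneC (D := chevF4)

theorem toMat_mul (K L : ℕ) :
    toMat chevF4 (mulC 52 K L) = toMat chevF4 K * toMat chevF4 L := toMat_mulC (D := chevF4) K L

variable {y : ℕ → G₂₄} {codes : List ℕ}

theorem mat_ev (h : ∀ i, mat (y i) = toMat chevF4 (codes.getD i (oneC 52))) (w : List ℕ) :
    mat (Schur.Pc.ev y w) = toMat chevF4 (cprod codes w) := by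
  have key : ∀ K, toMat chevF4 K * mat (Schur.Pc.ev y w) = toMat chevF4
      (w.foldl (fun K i => mulC 52 K (codes.getD i (oneC 52))) K) := by
    induction w with
    | nil => simp
    | cons i w ih =>
      intro K
      rw [Schur.Pc.ev_cons, map_mul, h, List.foldl_cons, ← ih, toMat_mul, mul_assoc]
  have := key (oneC 52)
  rwa [toMat_one, one_mul] at this

theorem ev_eq_of_cprod (h : ∀ i, mat (y i) = toMat chevF4 (codes.getD i (oneC 52)))
    {u w : List ℕ} (he : Nat.beq (cprod codes u) (cprod codes w) = true) :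
    Schur.Pc.ev y u = Schur.Pc.ev y w := by
  refine mat_injective ?_
  rw [mat_ev h, mat_ev h, Nat.eq_of_beq_eq_true he]

/-- The row of an element at a position. -/
def rowKey (a : ℕ) (g : G₂₄) : chevF4.Idx → ZMod 2 :=
  (fun b => bit (2 ^ a) (pos b)) ᵥ* mat g

theorem vecMul_toMat (r L : ℕ) :
    (fun b : chevF4.Idx => bit r (pos b)) ᵥ* toMat chevF4 L =
      fun b => bit (rowMul 52 r L 52) (pos b) := by
  funext b
  rw [bit_rowMul, ← dim_F4, ← sum_pos (D := chevF4)
    (fun k => bit r k * bit (digit (dim chevF4) L k) (pos b))]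
  rfl

theorem rowKey_ev (h : ∀ i, mat (y i) = toMat chevF4 (codes.getD i (oneC 52))) (a : ℕ)
    (w : List ℕ) :
    rowKey a (Schur.Pc.ev y w) = fun b => bit (rowC codes a w) (pos b) := by
  have key : ∀ r, (fun b : chevF4.Idx => bit r (pos b)) ᵥ* mat (Schur.Pc.ev y w) =
      fun b => bit (w.foldl (fun r i => rowMul 52 r (codes.getD i (oneC 52)) 52) r) (pos b) := by
    induction w with
    | nil => simp
    | cons i w ih =>
      intro r
      rw [Schur.Pc.ev_cons, map_mul, h, ← Matrix.vecMul_vecMul, vecMul_toMat, ih, List.foldl_cons]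
  exact key (2 ^ a)

/-- The key of a word: two rows, packed. -/
def keyC (codes : List ℕ) (a b : ℕ) (w : List ℕ) : ℕ :=
  rowC codes a w % 2 ^ 52 + 2 ^ 52 * (rowC codes b w % 2 ^ 52)

theorem mod_eq_of_bits {r s : ℕ}
    (h : (fun b : chevF4.Idx => bit r (pos b)) = fun b => bit s (pos b)) :
    r % 2 ^ 52 = s % 2 ^ 52 := by
  refine Nat.eq_of_testBit_eq fun j => ?_
  rw [Nat.testBit_mod_two_pow, Nat.testBit_mod_two_pow]
  by_cases hj : j < 52
  · have := congrFun h (finSumFinEquiv.symm ⟨j, hj⟩)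
    simp only [pos, Equiv.apply_symm_apply, bit] at this
    simp only [hj, decide_true, Bool.true_and]
    revert this
    cases r.testBit j <;> cases s.testBit j <;> simp
  · simp [hj]

theorem le_card_of_keys (h : ∀ i, mat (y i) = toMat chevF4 (codes.getD i (oneC 52))) (a b p n : ℕ)
    (hk : ((Schur.Pc.normalWords p n 0).map (keyC codes a b)).Nodup) :
    p ^ n ≤ Nat.card (Schur.Pc.tailSubgroup y n 0) := by
  refine Schur.Pc.le_card_of_nodup (fun g => (rowKey a g, rowKey b g)) p n y ?_
  refine List.Nodup.map_on (fun u hu w hw e => ?_) (List.Nodup.of_map _ hk)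
  simp only [Prod.mk.injEq, rowKey_ev h] at e
  refine List.inj_on_of_nodup_map hk hu hw ?_
  rw [keyC, keyC, mod_eq_of_bits e.1, mod_eq_of_bits e.2]

end CfsgLib.FFourMult
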